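import Cfsg.Agent.S0732
import Cfsg.Agent.S0989
import Cfsg.Agent.S2205
import Cfsg.Agent.Cl.AutField

/-! # Permutation groups of degree `p + 1` and `p² + 1` (S3597). -/

set_option autoImplicit false
open Subgroup MulAction
open scoped commutatorElement

namespace Cfsg.Agent.LP2

theorem solvable_semi {X F : Type*} [Group X] [Field F] [Finite F] (f : X →* Equiv.Perm F)
    (hf : Function.Injective f) (h : ∀ x, f x ∈ semiaffineGroup F) : Group.IsSolvable X := by
  have key : ∀ (x y : X) (a1 a2 : Fˣ) (b1 b2 : F) (θ : F → F), (∀ z, f (x * y) z = a1 * θ z + b1) →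
      (∀ z, f (y * x) z = a2 * θ z + b2) → ∀ z, f ⁅x, y⁆ z = (a1 * a2⁻¹ : Fˣ) * z + (b1 - (a1 * a2⁻¹ : Fˣ) * b2) := by
    intro x y a1 a2 b1 b2 θ h1 h2 z
    obtain ⟨w, rfl⟩ := (f (y * x)).surjective z
    rw [← Equiv.Perm.mul_apply, ← map_mul, show ⁅x, y⁆ * (y * x) = x * y by simp [commutatorElement_def, mul_assoc],
      h1, h2]
    simp only [Units.val_mul, Units.val_inv_eq_inv_val]
    have := a2.ne_zero
    field_simp
    ring
  let T : Subgroup X :=
    { carrier := {x | ∃ b, ∀ z, f x z = z + b}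
      one_mem' := ⟨0, by simp⟩
      mul_mem' := by
        rintro x y ⟨b, hb⟩ ⟨c, hc⟩
        exact ⟨c + b, fun z => by rw [map_mul, Equiv.Perm.mul_apply, hc, hb, add_assoc]⟩
      inv_mem' := by
        rintro x ⟨b, hb⟩
        exact ⟨-b, fun z => by rw [map_inv, Equiv.Perm.inv_eq_iff_eq, hb]; ring⟩ }
  have h1 : derivedSeries X 1 ≤ (affineGroup F).comap f := by
    refine commutator_le.2 fun x _ y _ => ?_
    obtain ⟨a, b, φ, e1⟩ := h x
    obtain ⟨c, d, ψ, e2⟩ := h y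
    have hc : ∀ z, ψ (φ z) = φ (ψ z) := fun z => congrArg (fun θ : RingAut F => θ z) (Cl.Aut.ringAut_comm ψ φ)
    refine ⟨_, _, key x y (a * Units.map (φ : F →* F) c) (c * Units.map (ψ : F →* F) a) (a * φ d + b) (c * ψ b + d)
      (fun z => φ (ψ z)) (fun z => ?_) fun z => ?_⟩
    · rw [map_mul, Equiv.Perm.mul_apply, e2, e1]; simp; ring
    · rw [map_mul, Equiv.Perm.mul_apply, e1, e2]; simp [hc]; ring
  have h2 : derivedSeries X 2 ≤ T := by
    refine commutator_le.2 fun x hx y hy => ?_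
    obtain ⟨a, b, e1⟩ := h1 hx
    obtain ⟨c, d, e2⟩ := h1 hy
    refine ⟨a * d + b - (c * b + d), fun z => (key x y (a * c) (a * c) (a * d + b) (c * b + d) id (fun z => ?_) (fun z => ?_) z).trans ?_⟩
    · rw [map_mul, Equiv.Perm.mul_apply, e2, e1]; simp; ring
    · rw [map_mul, Equiv.Perm.mul_apply, e1, e2]; simp; ring
    · rw [mul_inv_cancel, Units.val_one, one_mul, one_mul]
  refine ⟨3, eq_bot_iff.2 (commutator_le.2 fun x hx y hy => ?_)⟩
  obtain ⟨b, e1⟩ := h2 hx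
  obtain ⟨c, e2⟩ := h2 hy
  rw [mem_bot, commutatorElement_eq_one_iff_mul_comm]
  refine hf (Equiv.ext fun z => ?_)
  rw [map_mul, map_mul, Equiv.Perm.mul_apply, Equiv.Perm.mul_apply, e1, e2, e2, e1, add_right_comm]

variable {G Ω : Type*} [Group G] [MulAction G Ω] {p : ℕ}

theorem range_trans [IsPretransitive G Ω] : IsPretransitive (toPermHom G Ω).range Ω :=
  ⟨fun a b => (exists_smul_eq G a b).elim fun g hg => ⟨⟨_, g, rfl⟩, hg⟩⟩

/-- Transitive groups of degree `p + 1` with a normal `p`-subgroup in the point stabiliser. -/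
theorem pp [Finite G] [Finite Ω] [hp : Fact p.Prime] (hΩ : Nat.card Ω = p + 1) [IsPretransitive G Ω] (a : Ω)
    {D : Subgroup G} (hD : IsPGroup p D) (h1 : D ≤ stabilizer G a) (h2 : stabilizer G a ≤ normalizer (D : Set G))
    {x : G} (hx : x ∈ D) {b : Ω} (hb : x • b ≠ b) :
    (p + 1) * p * (p - 1) ∣ 2 * Nat.card (toPermHom G Ω).range ∨
      (∃ q, p + 1 = 2 ^ q) ∧ Group.IsSolvable (toPermHom G Ω).range := by
  classical
  haveI := Fintype.ofFinite Ω
  rw [Nat.card_eq_fintype_card] at hΩ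
  set φ := toPermHom G Ω
  haveI : IsPretransitive φ.range Ω := range_trans
  obtain ⟨Q, hQ⟩ := (hD.map φ).exists_le_sylow
  have hpD : p ∣ Nat.card (D.map φ) := (hD.map φ).card_eq_or_dvd.resolve_left fun h => hb (by
    have : φ x ∈ D.map φ := ⟨x, hx, rfl⟩
    rw [eq_bot_of_card_eq _ h, mem_bot] at this
    exact congrArg (fun σ : Equiv.Perm Ω => σ b) this)
  have hQc : Nat.card Q ≤ p := by
    obtain ⟨k, hk⟩ := Q.2.exists_card_eq
    have h3 := card_subgroup_dvd_card (Q : Subgroup (Equiv.Perm Ω))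
    change Nat.card Q = _ at hk
    change Nat.card Q ∣ _ at h3
    rw [hk, Nat.card_eq_fintype_card, Fintype.card_perm, hΩ] at h3
    have : k ≤ 1 := by
      by_contra h4
      have h5 := (pow_dvd_pow p (show 2 ≤ k by omega)).trans h3
      obtain ⟨n, rfl⟩ : ∃ n, p = n + 1 := ⟨p - 1, by have := hp.out.pos; omega⟩
      rw [Nat.factorial_succ, Nat.factorial_succ, mul_left_comm, sq] at h5
      rcases (hp.out.dvd_mul).1 (Nat.dvd_of_mul_dvd_mul_left hp.out.pos h5) with h6 | h6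
      · exact hp.out.one_lt.ne' (Nat.dvd_one.1 ((Nat.dvd_add_right dvd_rfl).1 h6))
      · have := hp.out.dvd_factorial.1 h6; omega
    rw [hk]
    exact (Nat.pow_le_pow_right hp.out.pos this).trans (pow_one p).le
  have hDQ : D.map φ = Q := eq_of_le_of_card_ge hQ (hQc.trans (Nat.le_of_dvd Nat.card_pos hpD))
  have hN := S0989.result p (Or.inr hΩ) Q
  have hS : (stabilizer G a).map φ ≤ normalizer ((Q : Subgroup (Equiv.Perm Ω)) : Set (Equiv.Perm Ω)) :=
    hDQ ▸ (map_mono h2).trans (le_normalizer_map φ)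
  have hS2 : (stabilizer φ.range a).map φ.range.subtype = (stabilizer G a).map φ := by
    refine le_antisymm ?_ ?_
    · rintro _ ⟨⟨_, g, rfl⟩, hg, rfl⟩; exact ⟨g, hg, rfl⟩
    · rintro _ ⟨g, hg, rfl⟩; exact ⟨⟨_, g, rfl⟩, hg, rfl⟩
  obtain ⟨d, hd⟩ := hpD.trans (card_dvd_of_le (map_mono (f := φ) h1))
  have hd2 : d ∣ p - 1 := Nat.dvd_of_mul_dvd_mul_left hp.out.pos (hd ▸ hN ▸ card_dvd_of_le hS)
  have hd3 := Nat.le_of_dvd (by have := hp.out.one_lt; omega) hd2
  have hc : Nat.card φ.range = (p + 1) * p * d := by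
    rw [← (stabilizer φ.range a).index_mul_card, index_stabilizer_of_transitive, Nat.card_eq_fintype_card, hΩ,
      ← card_map_of_injective φ.range.subtype_injective, hS2, hd, mul_assoc]
  rcases S0732.result hp.out hΩ φ.range hc (by have := hp.out.pos; omega) with ⟨e, -⟩ | ⟨e, -⟩ | ⟨q, hq, e, -, f, hf⟩
  · exact Or.inl (by rw [hc, e]; exact Dvd.intro_left 2 rfl)
  · exact Or.inl (by rw [hc, ← e]; exact Dvd.intro 1 (by ring))
  · exact Or.inr ⟨⟨q, e⟩, solvable_semi ((Equiv.permCongrHom f).toMonoidHom.comp φ.range.subtype)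
      ((Equiv.permCongrHom f).injective.comp φ.range.subtype_injective) hf⟩

/-- `P` fixes `a` and is semiregular on the other points. -/
def Semi (P : Subgroup G) (a : Ω) : Prop := P ≤ stabilizer G a ∧ ∀ x ∈ P, ∀ b, b ≠ a → x • b = b → x = 1

theorem Semi.ne {P : Subgroup G} {a : Ω} (h : Semi P a) {x : G} (hx : x ∈ P) {b : Ω} (hb : b ≠ a) : x • b ≠ a :=
  fun e => hb (smul_left_cancel x (e.trans (h.1 hx).symm))

theorem Semi.eq {P : Subgroup G} {a : Ω} (h : Semi P a) {x y : G} (hx : x ∈ P) (hy : y ∈ P) {b : Ω} (hb : b ≠ a)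
    (e : x • b = y • b) : x = y :=
  (inv_mul_eq_one.1 (h.2 _ (mul_mem (inv_mem hy) hx) b hb (by rw [mul_smul, e, inv_smul_smul]))).symm

theorem card_ne [Finite Ω] (a : Ω) : Nat.card {b // b ≠ a} + 1 = Nat.card Ω := by
  classical
  rw [← Finite.card_option]
  exact Nat.card_congr (Equiv.optionSubtypeNe a)

theorem Semi.card [Finite Ω] {P : Subgroup G} {a : Ω} (h : Semi P a) : ∃ t, Nat.card Ω = 1 + Nat.card P * t := by
  letI : MulAction P {b // b ≠ a} :=
    { smul := fun x b => ⟨x.1 • b.1, h.ne x.2 b.2⟩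
      one_smul := fun b => Subtype.ext (one_smul G b.1)
      mul_smul := fun x y b => Subtype.ext (mul_smul x.1 y.1 b.1) }
  have := Nat.card_congr (selfEquivOrbitsQuotientProd (G := P) (X := {b // b ≠ a}) fun b =>
    eq_bot_iff.2 fun x hx => Subtype.ext (h.2 x.1 x.2 b.1 b.2 (congrArg Subtype.val hx)))
  rw [Nat.card_prod] at this
  exact ⟨_, by rw [← card_ne a, this, mul_comm, add_comm]⟩

theorem Semi.reg [Finite Ω] {P : Subgroup G} {a : Ω} (h : Semi P a) (hc : Nat.card Ω = Nat.card P + 1) {b c : Ω}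
    (hb : b ≠ a) (hc' : c ≠ a) : ∃ x ∈ P, x • b = c := by
  let f : P → {b // b ≠ a} := fun x => ⟨x.1 • b, h.ne x.2 hb⟩
  have hf : Function.Injective f := fun x y e => Subtype.ext (h.eq x.2 y.2 hb (congrArg Subtype.val e))
  obtain ⟨x, hx⟩ := (hf.bijective_of_nat_card_le (by have := card_ne a; omega)).2 ⟨c, hc'⟩
  exact ⟨x.1, x.2, congrArg Subtype.val hx⟩

theorem two_of [IsPretransitive G Ω] {a : Ω} (h : ∀ b c, b ≠ a → c ≠ a → ∃ x : G, x • a = a ∧ x • b = c) :
    IsMultiplyPretransitive G Ω 2 := by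
  refine is_two_pretransitive_iff.2 fun {b c d e} h1 h2 => ?_
  obtain ⟨g, rfl⟩ := exists_smul_eq G a b
  obtain ⟨k, rfl⟩ := exists_smul_eq G a d
  obtain ⟨x, h3, h4⟩ := h (g⁻¹ • c) (k⁻¹ • e) (fun e => h1 (by rw [← e, smul_inv_smul]))
    fun e => h2 (by rw [← e, smul_inv_smul])
  exact ⟨k * x * g⁻¹, by rw [mul_smul, mul_smul, inv_smul_smul, h3], by rw [mul_smul, mul_smul, h4, smul_inv_smul]⟩

/-- Degree `p² + 1`: the regular subgroup contains no smaller normal subgroup of the point stabiliser. -/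
theorem k2 [Finite G] [Finite Ω] (hp : p.Prime) (h2 : p ≠ 2) (hΩ : Nat.card Ω = p ^ 2 + 1) [IsPretransitive G Ω]
    {a : Ω} {P E : Subgroup G} (h : Semi P a) (hP : Nat.card P = p ^ 2) (hE : E ≤ P) (hE1 : E ≠ ⊥)
    (hE2 : Nat.card E < p ^ 2) (hn : stabilizer G a ≤ normalizer (E : Set G)) : False := by
  classical
  haveI := Fintype.ofFinite Ω
  set φ := toPermHom G Ω
  haveI : IsPretransitive φ.range Ω := range_trans
  have h3 : IsMultiplyPretransitive φ.range Ω 2 := two_of (a := a) fun b c hb hc => by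
    obtain ⟨x, hx, e⟩ := h.reg (hP ▸ hΩ) hb hc
    exact ⟨⟨_, x, rfl⟩, h.1 hx, e⟩
  haveI := (S2205.result p hp (Nat.card_eq_fintype_card.symm.trans hΩ) h3 a).resolve_right fun h => h2 h.1
  let N : Subgroup (stabilizer φ.range a) := (E.map φ).comap (φ.range.subtype.comp (stabilizer φ.range a).subtype)
  haveI : N.Normal := ⟨by
    rintro ⟨⟨_, y, rfl⟩, hy⟩ ⟨e, he, e1⟩ ⟨⟨_, g, rfl⟩, hg⟩
    refine ⟨g * e * g⁻¹, (mem_normalizer_iff.1 (hn hg) e).1 he, ?_⟩
    rw [map_mul, map_mul, map_inv, e1]; rfl⟩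
  have hca := card_ne a
  have h0 : 0 < p ^ 2 := pow_pos hp.pos 2
  obtain ⟨⟨b, hb⟩⟩ : Nonempty {b // b ≠ a} := (Nat.card_pos_iff.1 (by omega)).1
  obtain ⟨⟨e, he⟩, he1⟩ := ne_bot_iff_exists_ne_one.1 hE1
  have hT : IsPretransitive N (SubMulAction.ofStabilizer φ.range a) :=
    IsQuasiPreprimitive.isPretransitive_of_normal fun hu => he1 (Subtype.ext (h.2 e (hE he) b hb (by
      have : (⟨b, hb⟩ : SubMulAction.ofStabilizer φ.range a) ∈ fixedPoints N _ := hu ▸ Set.mem_univ _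
      exact congrArg Subtype.val (this ⟨⟨⟨_, e, rfl⟩, h.1 (hE he)⟩, e, he, rfl⟩))))
  let f : E → {b // b ≠ a} := fun x => ⟨x.1 • b, h.ne (hE x.2) hb⟩
  have hf : Function.Surjective f := fun c => by
    obtain ⟨⟨n, x, hx, e1⟩, hn⟩ := hT.exists_smul_eq ⟨b, hb⟩ ⟨c.1, c.2⟩
    exact ⟨⟨x, hx⟩, Subtype.ext ((congrArg (fun σ : Equiv.Perm Ω => σ b) e1).trans (congrArg Subtype.val hn))⟩
  have := Nat.card_le_card_of_surjective f hf
  omega

end Cfsg.Agent.LP2
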